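import Mathlib.GroupTheory.Sylow
import Mathlib.GroupTheory.PGroup
import Mathlib.GroupTheory.Index

/-!
# S4311, BOX D4: the abstract part (helper778)

`P` a maximal 2-subgroup of `S` with `C_S(P) = ⟨z⟩` of order two.  If an overgroup `M` of `P` of index three does not
centralise `z` then `z` has three conjugates `z, v, z v` in `M`; if the elements of odd order centralising `z, v` and
normalising `C_P(v)` are trivial then `M` is determined by `v`.
-/

set_option autoImplicit false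
set_option linter.unusedSectionVars false

namespace Cfsg.Agent.H778.D4

universe u

variable {S : Type u} [Group S] [Finite S]

/-- the hypotheses -/
structure Hyp (P : Subgroup S) (z v : S) : Prop where
  two : IsPGroup 2 P
  max : ∀ Q : Subgroup S, IsPGroup 2 Q → P ≤ Q → Q ≤ P
  mem : z ∈ P
  ne : z ≠ 1
  sq : z * z = 1
  comm : ∀ x ∈ P, x * z = z * x
  cen : ∀ w, (∀ x ∈ P, x * w = w * x) → w = 1 ∨ w = z
  card : 2 < Nat.card P
  ml : ∀ w ∈ P, w ≠ 1 → w ≠ z → (∀ x ∈ P, x * w * x⁻¹ = w ∨ x * w * x⁻¹ = z * w) → w = v ∨ w = z * v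
  ol : ∀ (y : S) (n : ℕ), Odd n → y ^ n = 1 → y * z = z * y → y * v = v * y →
    (∀ r ∈ P, r * v = v * r → y * r * y⁻¹ ∈ P) → y = 1

/-- the overgroups of index three not centralising `z` -/
structure Ov (P : Subgroup S) (z : S) (M : Subgroup S) : Prop where
  le : P ≤ M
  idx : P.relIndex M = 3
  nc : ¬ ∀ m ∈ M, m * z = z * m

variable {P : Subgroup S} {z v : S} {M : Subgroup S}

/-- `C_M(z) = P` -/
theorem Ov.mem_of_comm (h : Hyp P z v) (hM : Ov P z M) {m : S} (hm : m ∈ M) (hmz : m * z = z * m) : m ∈ P := by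
  set C : Subgroup S := M ⊓ Subgroup.centralizer {z} with hC
  have hPC : P ≤ C := by
    intro x hx
    refine ⟨hM.le hx, Subgroup.mem_centralizer_iff.2 ?_⟩
    rintro y rfl
    exact (h.comm x hx).symm
  have hCM : C ≤ M := inf_le_left
  have h1 := Subgroup.relIndex_mul_relIndex P C M hPC hCM
  rw [hM.idx] at h1
  have h2 : C.relIndex M ≠ 1 := by
    intro h2
    rw [Subgroup.relIndex_eq_one] at h2
    refine hM.nc fun m hm => ?_
    exact (Subgroup.mem_centralizer_iff.1 (h2 hm).2 z rfl).symm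
  have h3 : C.relIndex M = 3 := by
    have h4 : C.relIndex M ∣ 3 := ⟨_, by rw [mul_comm]; exact h1.symm⟩
    exact ((Nat.dvd_prime Nat.prime_three).1 h4).resolve_left h2
  rw [h3] at h1
  have h4 : P.relIndex C = 1 := by omega
  rw [Subgroup.relIndex_eq_one] at h4
  refine h4 ⟨hm, Subgroup.mem_centralizer_iff.2 ?_⟩
  rintro y rfl
  exact hmz.symm

/-- the three conjugates of `z` -/
theorem Ov.exists_conj (h : Hyp P z v) (hM : Ov P z M) : ∃ w w' : S, w ≠ z ∧ w' ≠ z ∧ w ≠ w' ∧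
    (∃ m ∈ M, m * z * m⁻¹ = w) ∧ (∃ m ∈ M, m * z * m⁻¹ = w') ∧
    ∀ m ∈ M, m * z * m⁻¹ = z ∨ m * z * m⁻¹ = w ∨ m * z * m⁻¹ = w' := by
  set f : M → S := fun m => (m : S) * z * (m : S)⁻¹ with hf
  have hiff : ∀ a b : M, f a = f b ↔ a⁻¹ * b ∈ P.subgroupOf M := by
    intro a b
    rw [Subgroup.mem_subgroupOf]
    constructor
    · intro hab
      refine hM.mem_of_comm h (a⁻¹ * b).2 ?_
      have h1 : (a : S) * z * (a : S)⁻¹ = (b : S) * z * (b : S)⁻¹ := hab
      push_cast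
      calc (a : S)⁻¹ * b * z = (a : S)⁻¹ * ((b : S) * z * (b : S)⁻¹) * b := by group
        _ = (a : S)⁻¹ * ((a : S) * z * (a : S)⁻¹) * b := by rw [h1]
        _ = z * ((a : S)⁻¹ * b) := by group
    · intro hab
      have h1 := h.comm _ hab
      push_cast at h1
      show (a : S) * z * (a : S)⁻¹ = (b : S) * z * (b : S)⁻¹
      have h2 : (b : S) * z * (b : S)⁻¹ = (a : S) * ((a : S)⁻¹ * b * z) * (b : S)⁻¹ := by group
      rw [h2, h1]
      group
  set g : M ⧸ P.subgroupOf M → S := fun q => Quotient.liftOn' q f fun a b hab => (hiff a b).2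
    (QuotientGroup.leftRel_apply.1 hab) with hg
  have hgm : ∀ a : M, g (QuotientGroup.mk a) = f a := fun a => rfl
  have hinj : Function.Injective g := by
    intro p q
    induction p using QuotientGroup.induction_on with | _ a => ?_
    induction q using QuotientGroup.induction_on with | _ b => ?_
    intro hab
    rw [hgm, hgm, hiff] at hab
    exact QuotientGroup.eq.2 hab
  have h3 : (Set.range g).ncard = 3 := by
    rw [← Set.image_univ, Set.ncard_image_of_injective _ hinj, Set.ncard_univ]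
    exact hM.idx
  have hz : z ∈ Set.range g := ⟨QuotientGroup.mk 1, by rw [hgm]; simp [hf]⟩
  have hmem : ∀ x, x ∈ Set.range g ↔ ∃ m ∈ M, m * z * m⁻¹ = x := by
    intro x
    constructor
    · rintro ⟨q, rfl⟩
      induction q using QuotientGroup.induction_on with | _ a => ?_
      exact ⟨a, a.2, rfl⟩
    · rintro ⟨m, hm, rfl⟩
      exact ⟨QuotientGroup.mk ⟨m, hm⟩, rfl⟩
  have h4 : (Set.range g \ {z}).ncard = 2 := by
    have := Set.ncard_sdiff_singleton_add_one hz (Set.toFinite _)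
    omega
  obtain ⟨w, w', hne, hww⟩ := Set.ncard_eq_two.1 h4
  have hw : w ∈ Set.range g \ {z} := by rw [hww]; exact Or.inl rfl
  have hw' : w' ∈ Set.range g \ {z} := by rw [hww]; exact Or.inr rfl
  refine ⟨w, w', hw.2, hw'.2, hne, (hmem w).1 hw.1, (hmem w').1 hw'.1, fun m hm => ?_⟩
  by_cases h5 : m * z * m⁻¹ = z
  · exact Or.inl h5
  · have h6 : m * z * m⁻¹ ∈ Set.range g \ {z} := ⟨(hmem _).2 ⟨m, hm, rfl⟩, h5⟩
    rw [hww] at h6
    exact Or.inr h6

/-- a normal subgroup of index at most two of `P` contains `z` -/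
theorem Hyp.mem_of_normal (h : Hyp P z v) {K : Subgroup S} (hK : K ≤ P) (hn : ∀ x ∈ P, ∀ k ∈ K, x * k * x⁻¹ ∈ K)
    (h2 : ∃ a ∈ P, ∀ x ∈ P, x ∈ K ∨ a * x ∈ K) : z ∈ K := by
  classical
  -- `K ≠ 1`
  have hK1 : Nat.card K ≠ 1 := by
    intro h1
    have hbot : K = ⊥ := Subgroup.card_eq_one.1 h1
    obtain ⟨a, ha, hx⟩ := h2
    have hle : Nat.card P ≤ 2 := by
      have hsub : ((P : Set S)) ⊆ {1, a⁻¹} := by
        intro x hxP
        rcases hx x hxP with h3 | h3
        · rw [hbot, Subgroup.mem_bot] at h3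
          exact Or.inl h3
        · rw [hbot, Subgroup.mem_bot] at h3
          exact Or.inr (eq_inv_of_mul_eq_one_right h3)
      calc Nat.card P = (P : Set S).ncard := rfl
        _ ≤ ({1, a⁻¹} : Set S).ncard := Set.ncard_le_ncard hsub (Set.toFinite _)
        _ ≤ ({a⁻¹} : Set S).ncard + 1 := Set.ncard_insert_le _ _
        _ = 2 := by rw [Set.ncard_singleton]
    have := h.card
    omega
  have hKp : IsPGroup 2 K := h.two.to_le hK
  have hdvd : 2 ∣ Nat.card K := by
    have : Fact (Nat.Prime 2) := ⟨Nat.prime_two⟩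
    obtain ⟨n, hn⟩ := hKp.exists_card_eq
    rcases Nat.eq_zero_or_pos n with h0 | h0
    · rw [h0, pow_zero] at hn
      exact absurd hn hK1
    · rw [hn]
      exact dvd_pow_self 2 h0.ne'
  -- `P` acts on `K` by conjugation
  let act : MulAction P K :=
    { smul := fun x k => ⟨(x : S) * k * (x : S)⁻¹, hn x x.2 k k.2⟩
      one_smul := fun k => Subtype.ext (by show (1 : S) * k * (1 : S)⁻¹ = k; simp)
      mul_smul := fun x y k => Subtype.ext (by
        show ((x : S) * y) * k * ((x : S) * y)⁻¹ = x * (y * k * (y : S)⁻¹) * (x : S)⁻¹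
        group) }
  have : Fact (Nat.Prime 2) := ⟨Nat.prime_two⟩
  have hfix : (1 : K) ∈ MulAction.fixedPoints P K := by
    intro x
    apply Subtype.ext
    show (x : S) * (1 : S) * (x : S)⁻¹ = 1
    simp
  obtain ⟨b, hb, hb1⟩ := h.two.exists_fixed_point_of_prime_dvd_card_of_fixed_point K hdvd hfix
  have hbc : ∀ x ∈ P, x * (b : S) = b * x := by
    intro x hx
    have h5 : (x : S) * b * (x : S)⁻¹ = b := congrArg Subtype.val (hb ⟨x, hx⟩)
    calc x * (b : S) = (x * b * x⁻¹) * x := by group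
      _ = b * x := by rw [h5]
  rcases h.cen _ hbc with h6 | h6
  · exact absurd (Subtype.ext h6.symm) hb1
  · rw [← h6]
    exact b.2

theorem conj_inj {a b m : S} (h : m * a * m⁻¹ = m * b * m⁻¹) : a = b :=
  mul_left_cancel (mul_right_cancel h)

/-- **the conjugates of `z` are `z, v, z v`** -/
theorem Ov.conj_eq (h : Hyp P z v) (hM : Ov P z M) :
    (v ≠ z ∧ v ≠ 1 ∧ v ∈ P ∧ v * v = 1) ∧ (∃ m ∈ M, m * z * m⁻¹ = v) ∧ (∃ m ∈ M, m * z * m⁻¹ = z * v) ∧
    (∀ m ∈ M, m * z * m⁻¹ = z ∨ m * z * m⁻¹ = v ∨ m * z * m⁻¹ = z * v) := by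
  obtain ⟨w, w', hwz, hwz', hww, ⟨m₁, hm₁, hmw⟩, ⟨m₂, hm₂, hmw'⟩, hall⟩ := hM.exists_conj h
  have hzM : z ∈ M := hM.le h.mem
  -- the set of the conjugates
  set T : Set S := {z, w, w'} with hT
  have hTmem : ∀ x, x ∈ T ↔ ∃ m ∈ M, m * z * m⁻¹ = x := by
    intro x
    constructor
    · rintro (rfl | rfl | rfl)
      · exact ⟨1, M.one_mem, by simp⟩
      · exact ⟨m₁, hm₁, hmw⟩
      · exact ⟨m₂, hm₂, hmw'⟩
    · rintro ⟨m, hm, rfl⟩
      exact hall m hm
  have hTconj : ∀ m ∈ M, ∀ x ∈ T, m * x * m⁻¹ ∈ T := by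
    intro m hm x hx
    obtain ⟨k, hk, rfl⟩ := (hTmem x).1 hx
    refine (hTmem _).2 ⟨m * k, M.mul_mem hm hk, by group⟩
  -- the kernel
  set K : Subgroup S := M ⊓ Subgroup.centralizer T with hK
  have hKmem : ∀ x, x ∈ K ↔ x ∈ M ∧ ∀ t ∈ T, t * x = x * t := by
    intro x
    rw [hK, Subgroup.mem_inf, Subgroup.mem_centralizer_iff]
  have hKP : K ≤ P := fun x hx => hM.mem_of_comm h hx.1 (((hKmem x).1 hx).2 z (Or.inl rfl)).symm
  have hKn : ∀ m ∈ M, ∀ k ∈ K, m * k * m⁻¹ ∈ K := by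
    intro m hm k hk
    obtain ⟨hkM, hkT⟩ := (hKmem k).1 hk
    refine (hKmem _).2 ⟨M.mul_mem (M.mul_mem hm hkM) (M.inv_mem hm), fun t ht => ?_⟩
    have h1 := hkT _ (hTconj m⁻¹ (M.inv_mem hm) t ht)
    rw [inv_inv] at h1
    calc t * (m * k * m⁻¹) = m * ((m⁻¹ * t * m) * k) * m⁻¹ := by group
      _ = m * (k * (m⁻¹ * t * m)) * m⁻¹ := by rw [h1]
      _ = m * k * m⁻¹ * t := by group
  -- elements of `P` fix or swap `w, w'`
  have hPz : ∀ x ∈ P, x * z * x⁻¹ = z := fun x hx => by rw [h.comm x hx]; group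
  have hPw : ∀ x ∈ P, (x * w * x⁻¹ = w ∧ x * w' * x⁻¹ = w') ∨ (x * w * x⁻¹ = w' ∧ x * w' * x⁻¹ = w) := by
    intro x hx
    have h1 := hTconj x (hM.le hx) w (Or.inr (Or.inl rfl))
    have h2 := hTconj x (hM.le hx) w' (Or.inr (Or.inr rfl))
    have h3 : x * w * x⁻¹ ≠ z := fun h3 => hwz (conj_inj (h3.trans (hPz x hx).symm))
    have h4 : x * w' * x⁻¹ ≠ z := fun h4 => hwz' (conj_inj (h4.trans (hPz x hx).symm))
    have h5 : x * w * x⁻¹ ≠ x * w' * x⁻¹ := fun h5 => hww (conj_inj h5)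
    rcases h1 with h1 | h1 | h1
    · exact absurd h1 h3
    · rcases h2 with h2 | h2 | h2
      · exact absurd h2 h4
      · exact absurd (h1.trans h2.symm) h5
      · exact Or.inl ⟨h1, h2⟩
    · rcases h2 with h2 | h2 | h2
      · exact absurd h2 h4
      · exact Or.inr ⟨h1, h2⟩
      · exact absurd (h1.trans h2.symm) h5
  have hmemK : ∀ x ∈ P, x * w * x⁻¹ = w → x ∈ K := by
    intro x hx hxw
    have h1 : x * w' * x⁻¹ = w' := by
      rcases hPw x hx with h2 | h2
      · exact h2.2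
      · exact absurd (hxw.symm.trans h2.1) hww
    refine (hKmem x).2 ⟨hM.le hx, ?_⟩
    have h0 : ∀ t, x * t * x⁻¹ = t → t * x = x * t := by
      intro t ht
      calc t * x = (x * t * x⁻¹) * x := by rw [ht]
        _ = x * t := by group
    rintro t (rfl | rfl | rfl)
    · exact h0 _ (hPz x hx)
    · exact h0 _ hxw
    · exact h0 _ h1
  -- `z ∈ K`
  have hzK : z ∈ K := by
    refine h.mem_of_normal hKP (fun x hx => hKn x (hM.le hx)) ?_
    by_cases h1 : ∃ a ∈ P, a * w * a⁻¹ = w'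
    · obtain ⟨a, ha, haw⟩ := h1
      refine ⟨a, ha, fun x hx => ?_⟩
      rcases hPw x hx with h2 | h2
      · exact Or.inl (hmemK x hx h2.1)
      · refine Or.inr (hmemK _ (P.mul_mem ha hx) ?_)
        have h3 : a * w' * a⁻¹ = w := by
          rcases hPw a ha with h4 | h4
          · exact absurd (h4.1.symm.trans haw) hww
          · exact h4.2
        calc a * x * w * (a * x)⁻¹ = a * (x * w * x⁻¹) * a⁻¹ := by group
          _ = w := by rw [h2.1, h3]
    · push Not at h1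
      refine ⟨1, P.one_mem, fun x hx => Or.inl (hmemK x hx ?_)⟩
      rcases hPw x hx with h2 | h2
      · exact h2.1
      · exact absurd h2.1 (h1 x hx)
  -- the conjugates commute
  have hzT : ∀ t ∈ T, t * z = z * t := ((hKmem z).1 hzK).2
  have hTT : ∀ s ∈ T, ∀ t ∈ T, t * s = s * t := by
    intro s hs t ht
    obtain ⟨m, hm, rfl⟩ := (hTmem s).1 hs
    have h1 := hzT _ (hTconj m⁻¹ (M.inv_mem hm) t ht)
    rw [inv_inv] at h1
    calc t * (m * z * m⁻¹) = m * ((m⁻¹ * t * m) * z) * m⁻¹ := by group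
      _ = m * (z * (m⁻¹ * t * m)) * m⁻¹ := by rw [h1]
      _ = m * z * m⁻¹ * t := by group
  have hTM : ∀ t ∈ T, t ∈ M := by
    intro t ht
    obtain ⟨m, hm, rfl⟩ := (hTmem t).1 ht
    exact M.mul_mem (M.mul_mem hm hzM) (M.inv_mem hm)
  have hTP : ∀ t ∈ T, t ∈ P := fun t ht => hM.mem_of_comm h (hTM t ht) (hzT t ht)
  have hTsq : ∀ t ∈ T, t * t = 1 := by
    intro t ht
    obtain ⟨m, hm, rfl⟩ := (hTmem t).1 ht
    calc m * z * m⁻¹ * (m * z * m⁻¹) = m * (z * z) * m⁻¹ := by group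
      _ = 1 := by rw [h.sq]; group
  have hTne : ∀ t ∈ T, t ≠ 1 := by
    intro t ht h1
    obtain ⟨m, hm, rfl⟩ := (hTmem t).1 ht
    apply h.ne
    calc z = m⁻¹ * (m * z * m⁻¹) * m := by group
      _ = 1 := by rw [h1]; group
  have hwT : w ∈ T := Or.inr (Or.inl rfl)
  have hwT' : w' ∈ T := Or.inr (Or.inr rfl)
  have hzT' : z ∈ T := Or.inl rfl
  -- the product of the three conjugates
  have hprod : w' = z * w := by
    have h1 : ∀ x ∈ P, x * (z * w * w') = (z * w * w') * x := by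
      intro x hx
      have h2 : x * (z * w * w') * x⁻¹ = z * w * w' := by
        calc x * (z * w * w') * x⁻¹ = (x * z * x⁻¹) * (x * w * x⁻¹) * (x * w' * x⁻¹) := by group
          _ = z * w * w' := by
            rw [hPz x hx]
            rcases hPw x hx with h3 | h3
            · rw [h3.1, h3.2]
            · rw [h3.1, h3.2, mul_assoc, mul_assoc, hTT w hwT w' hwT']
      calc x * (z * w * w') = (x * (z * w * w') * x⁻¹) * x := by group
        _ = _ := by rw [h2]
    have hinv : w⁻¹ = w := inv_eq_of_mul_eq_one_right (hTsq w hwT)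
    rcases h.cen _ h1 with h2 | h2
    · have h3 : w' = (z * w)⁻¹ := (inv_eq_of_mul_eq_one_right h2).symm
      rw [h3, mul_inv_rev, hinv, inv_eq_of_mul_eq_one_right h.sq]
      exact (hTT z hzT' w hwT)
    · exfalso
      apply hww
      have h3 : w * w' = 1 := by
        have h4 : z * (w * w') = z * 1 := by rw [mul_one, ← mul_assoc, h2]
        exact mul_left_cancel h4
      calc w = w⁻¹ := hinv.symm
        _ = w' := inv_eq_of_mul_eq_one_right h3
  -- the element `w` is `v` or `z v`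
  have hw1 : w = v ∨ w = z * v := by
    refine h.ml w (hTP w hwT) (hTne w hwT) hwz fun x hx => ?_
    rcases hPw x hx with h2 | h2
    · exact Or.inl h2.1
    · exact Or.inr (h2.1.trans hprod)
  have hzz : ∀ x : S, z * (z * x) = x := fun x => by rw [← mul_assoc, h.sq, one_mul]
  have hcase : (w = v ∧ w' = z * v) ∨ (w = z * v ∧ w' = v) := by
    rcases hw1 with h2 | h2
    · exact Or.inl ⟨h2, by rw [hprod, h2]⟩
    · exact Or.inr ⟨h2, by rw [hprod, h2, hzz]⟩
  rcases hcase with ⟨rfl, rfl⟩ | ⟨rfl, rfl⟩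
  · exact ⟨⟨hwz, hTne _ hwT, hTP _ hwT, hTsq _ hwT⟩, ⟨m₁, hm₁, hmw⟩, ⟨m₂, hm₂, hmw'⟩, hall⟩
  · exact ⟨⟨hwz', hTne _ hwT', hTP _ hwT', hTsq _ hwT'⟩, ⟨m₂, hm₂, hmw'⟩, ⟨m₁, hm₁, hmw⟩,
      fun m hm => (hall m hm).imp_right Or.symm⟩

/-- **at most one overgroup of index three does not centralise `z`** -/
theorem Ov.le_of (h : Hyp P z v) {M M' : Subgroup S} (hM : Ov P z M) (hM' : Ov P z M') : M' ≤ M := by
  classical
  obtain ⟨⟨hvz, hv1, hvP, hvv⟩, hcv, hczv, hall⟩ := hM.conj_eq h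
  obtain ⟨-, -, -, hall'⟩ := hM'.conj_eq h
  have hzv : v * z = z * v := h.comm v hvP
  have hzz : ∀ x : S, z * (z * x) = x := fun x => by rw [← mul_assoc, h.sq, one_mul]
  -- `P` swaps `v` and `z v`
  have hPv : ∀ x ∈ P, x * v * x⁻¹ = v ∨ x * v * x⁻¹ = z * v := by
    intro x hx
    obtain ⟨m, hm, hmv⟩ := hcv
    have h1 := hall (x * m) (M.mul_mem (hM.le hx) hm)
    have h2 : x * m * z * (x * m)⁻¹ = x * v * x⁻¹ := by rw [← hmv]; group
    rw [h2] at h1
    rcases h1 with h1 | h1 | h1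
    · exfalso
      apply hvz
      apply conj_inj (m := x)
      rw [h1, h.comm x hx]
      group
    · exact Or.inl h1
    · exact Or.inr h1
  -- the subgroup `R`
  set R : Subgroup S := P ⊓ Subgroup.centralizer {v} with hR
  have hRmem : ∀ x, x ∈ R ↔ x ∈ P ∧ x * v = v * x := by
    intro x
    rw [hR, Subgroup.mem_inf, Subgroup.mem_centralizer_iff]
    constructor
    · rintro ⟨h1, h2⟩
      exact ⟨h1, (h2 v rfl).symm⟩
    · rintro ⟨h1, h2⟩
      refine ⟨h1, ?_⟩
      rintro y rfl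
      exact h2.symm
  -- conjugates of `z, v, z v` by elements of an overgroup
  have hset : ∀ {N : Subgroup S}, Ov P z N → ∀ g ∈ N, ∀ t, (t = z ∨ t = v ∨ t = z * v) →
      (g * t * g⁻¹ = z ∨ g * t * g⁻¹ = v ∨ g * t * g⁻¹ = z * v) := by
    intro N hN g hg t ht
    obtain ⟨-, hcv, hczv, hall⟩ := hN.conj_eq h
    rcases ht with rfl | rfl | rfl
    · exact hall g hg
    · obtain ⟨m, hm, hmv⟩ := hcv
      have h1 := hall (g * m) (N.mul_mem hg hm)
      have h2 : g * m * z * (g * m)⁻¹ = g * t * g⁻¹ := by rw [← hmv]; group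
      rwa [h2] at h1
    · obtain ⟨m, hm, hmv⟩ := hczv
      have h1 := hall (g * m) (N.mul_mem hg hm)
      have h2 : g * m * z * (g * m)⁻¹ = g * (z * v) * g⁻¹ := by rw [← hmv]; group
      rwa [h2] at h1
  -- elements commuting with `z` and `v` commute with the three
  have hRc : ∀ x ∈ R, ∀ t, (t = z ∨ t = v ∨ t = z * v) → x * t = t * x := by
    intro x hx t ht
    obtain ⟨h1, h2⟩ := (hRmem x).1 hx
    rcases ht with rfl | rfl | rfl
    · exact h.comm x h1
    · exact h2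
    · rw [← mul_assoc, h.comm x h1, mul_assoc, h2, mul_assoc]
  -- `R` is normalised by overgroups
  have hRn : ∀ {N : Subgroup S}, Ov P z N → ∀ g ∈ N, ∀ x ∈ R, g * x * g⁻¹ ∈ R := by
    intro N hN g hg x hx
    obtain ⟨h1, h2⟩ := (hRmem x).1 hx
    have hc : ∀ t, (t = z ∨ t = v ∨ t = z * v) → (g * x * g⁻¹) * t = t * (g * x * g⁻¹) := by
      intro t ht
      have h3 := hRc x hx _ (hset hN g⁻¹ (N.inv_mem hg) t ht)
      rw [inv_inv] at h3
      calc (g * x * g⁻¹) * t = g * (x * (g⁻¹ * t * g)) * g⁻¹ := by group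
        _ = g * ((g⁻¹ * t * g) * x) * g⁻¹ := by rw [h3]
        _ = t * (g * x * g⁻¹) := by group
    refine (hRmem _).2 ⟨hN.mem_of_comm h (N.mul_mem (N.mul_mem hg (hN.le h1)) (N.inv_mem hg)) (hc z (Or.inl rfl)), 
      hc v (Or.inr (Or.inl rfl))⟩
  -- the centraliser of `z, v` in the normaliser of `R` is a 2-group contained in `P`
  set C : Subgroup S := (Subgroup.centralizer {z} ⊓ Subgroup.centralizer {v}) ⊓ Subgroup.normalizer (R : Set S) with hC
  have hcz : ∀ a b : S, b ∈ Subgroup.centralizer {a} ↔ b * a = a * b := by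
    intro a b
    rw [Subgroup.mem_centralizer_iff]
    constructor
    · intro h1
      exact (h1 a rfl).symm
    · intro h1
      rintro y rfl
      exact h1.symm
  have hCmem : ∀ x, x ∈ C ↔ (x * z = z * x ∧ x * v = v * x) ∧ x ∈ Subgroup.normalizer (R : Set S) := by
    intro x
    rw [hC, Subgroup.mem_inf, Subgroup.mem_inf, hcz, hcz]
  have hCpow : ∀ y ∈ C, ∀ n : ℕ, Odd n → y ^ n = 1 → y = 1 := by
    intro y hy n hn hyn
    obtain ⟨⟨h1, h2⟩, h3⟩ := (hCmem y).1 hy
    refine h.ol y n hn hyn h1 h2 fun r hr hrv => ?_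
    have h4 : r ∈ R := (hRmem r).2 ⟨hr, hrv⟩
    exact (((Subgroup.mem_normalizer_iff.1 h3 r).1 h4)).1
  have hCtwo : IsPGroup 2 C := by
    rintro ⟨y, hy⟩
    obtain ⟨a, m, hm, ho⟩ := Nat.exists_eq_two_pow_mul_odd (n := orderOf y) (orderOf_pos y).ne'
    refine ⟨a, Subtype.ext ?_⟩
    show y ^ 2 ^ a = 1
    refine hCpow _ (C.pow_mem hy _) m hm ?_
    rw [← pow_mul, ← ho, pow_orderOf_eq_one]
  have hPC : ∀ x ∈ P, ∀ c ∈ C, x * c * x⁻¹ ∈ C := by
    intro x hx c hc
    obtain ⟨⟨h1, h2⟩, h3⟩ := (hCmem c).1 hc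
    have hct : ∀ t, (t = z ∨ t = v ∨ t = z * v) → c * t = t * c := by
      intro t ht
      rcases ht with rfl | rfl | rfl
      · exact h1
      · exact h2
      · rw [← mul_assoc, h1, mul_assoc, h2, mul_assoc]
    have hc' : ∀ t, (t = z ∨ t = v ∨ t = z * v) → (x * c * x⁻¹) * t = t * (x * c * x⁻¹) := by
      intro t ht
      have h3 := hct _ (hset hM x⁻¹ (M.inv_mem (hM.le hx)) t ht)
      rw [inv_inv] at h3
      calc (x * c * x⁻¹) * t = x * (c * (x⁻¹ * t * x)) * x⁻¹ := by group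
        _ = x * ((x⁻¹ * t * x) * c) * x⁻¹ := by rw [h3]
        _ = t * (x * c * x⁻¹) := by group
    refine (hCmem _).2 ⟨⟨hc' z (Or.inl rfl), hc' v (Or.inr (Or.inl rfl))⟩, ?_⟩
    have hxn : x ∈ Subgroup.normalizer (R : Set S) := by
      rw [Subgroup.mem_normalizer_iff]
      intro r
      constructor
      · intro hr
        exact hRn hM x (hM.le hx) r hr
      · intro hr
        have h5 := hRn hM x⁻¹ (M.inv_mem (hM.le hx)) _ hr
        have h6 : x⁻¹ * (x * r * x⁻¹) * x⁻¹⁻¹ = r := by group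
        rwa [h6] at h5
    exact Subgroup.mul_mem _ (Subgroup.mul_mem _ hxn h3) (Subgroup.inv_mem _ hxn)
  have hCP : C ≤ P := by
    have h1 : P ≤ Subgroup.normalizer (C : Set S) := by
      intro x hx
      rw [Subgroup.mem_normalizer_iff]
      intro r
      constructor
      · intro hr
        exact hPC x hx r hr
      · intro hr
        have h5 := hPC x⁻¹ (P.inv_mem hx) _ hr
        have h6 : x⁻¹ * (x * r * x⁻¹) * x⁻¹⁻¹ = r := by group
        rwa [h6] at h5
    have h2 : IsPGroup 2 (P ⊔ C : Subgroup S) := h.two.to_sup_of_normal_right' hCtwo h1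
    exact le_trans le_sup_right (h.max _ h2 le_sup_left)
  -- the elements normalising `R` and fixing `z` and `v` lie in `P`
  have hfin : ∀ g : S, g ∈ Subgroup.normalizer (R : Set S) → g * z = z * g → g * v = v * g → g ∈ P := fun g h1 h2 h3 =>
    hCP ((hCmem g).2 ⟨⟨h2, h3⟩, h1⟩)
  have hNn : ∀ {N : Subgroup S}, Ov P z N → N ≤ Subgroup.normalizer (R : Set S) := by
    intro N hN x hx
    rw [Subgroup.mem_normalizer_iff]
    intro r
    constructor
    · intro hr
      exact hRn hN x hx r hr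
    · intro hr
      have h5 := hRn hN x⁻¹ (N.inv_mem hx) _ hr
      have h6 : x⁻¹ * (x * r * x⁻¹) * x⁻¹⁻¹ = r := by group
      rwa [h6] at h5
  -- an element of `P` swapping
  obtain ⟨x₀, hx₀, hxv⟩ : ∃ x ∈ P, x * v * x⁻¹ = z * v := by
    by_contra hcon
    push Not at hcon
    have h1 : ∀ x ∈ P, x * v = v * x := by
      intro x hx
      have h2 : x * v * x⁻¹ = v := (hPv x hx).resolve_right (hcon x hx)
      calc x * v = (x * v * x⁻¹) * x := by group
        _ = v * x := by rw [h2]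
    rcases h.cen v h1 with h2 | h2
    · exact hv1 h2
    · exact hvz h2
  intro g hg
  -- multiply with an element of `M`
  obtain ⟨m, hm, hmz⟩ : ∃ m ∈ M, g * z * g⁻¹ = m * z * m⁻¹ := by
    rcases hall' g hg with h1 | h1 | h1
    · exact ⟨1, M.one_mem, by rw [h1]; group⟩
    · obtain ⟨m, hm, hmv⟩ := hcv
      exact ⟨m, hm, by rw [h1, hmv]⟩
    · obtain ⟨m, hm, hmv⟩ := hczv
      exact ⟨m, hm, by rw [h1, hmv]⟩
  set g' : S := m⁻¹ * g with hg'
  have hgz : g' * z = z * g' := by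
    calc g' * z = m⁻¹ * (g * z * g⁻¹) * g := by rw [hg']; group
      _ = m⁻¹ * (m * z * m⁻¹) * g := by rw [hmz]
      _ = z * g' := by rw [hg']; group
  have hgn : g' ∈ Subgroup.normalizer (R : Set S) :=
    Subgroup.mul_mem _ (Subgroup.inv_mem _ (hNn hM hm)) (hNn hM' hg)
  have hgv : g' * v * g'⁻¹ = z ∨ g' * v * g'⁻¹ = v ∨ g' * v * g'⁻¹ = z * v := by
    have h1 := hset hM' g hg v (Or.inr (Or.inl rfl))
    have h2 := hset hM m⁻¹ (M.inv_mem hm) _ h1
    have h3 : m⁻¹ * (g * v * g⁻¹) * m⁻¹⁻¹ = g' * v * g'⁻¹ := by rw [hg']; group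
    rwa [h3] at h2
  have hgm : g = m * g' := by rw [hg']; group
  rcases hgv with h1 | h1 | h1
  · exfalso
    apply hvz
    apply conj_inj (m := g')
    rw [h1, hgz]
    group
  · have h2 : g' * v = v * g' := by
      calc g' * v = (g' * v * g'⁻¹) * g' := by group
        _ = v * g' := by rw [h1]
    rw [hgm]
    exact M.mul_mem hm (hM.le (hfin g' hgn hgz h2))
  · have hx1 := h.comm x₀ hx₀
    have h3 : (x₀⁻¹ * g') * v = v * (x₀⁻¹ * g') := by
      calc (x₀⁻¹ * g') * v = x₀⁻¹ * (g' * v * g'⁻¹) * g' := by group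
        _ = x₀⁻¹ * (x₀ * v * x₀⁻¹) * g' := by rw [h1, hxv]
        _ = v * (x₀⁻¹ * g') := by group
    have hxz : x₀⁻¹ * z = z * x₀⁻¹ := h.comm _ (P.inv_mem hx₀)
    have h4 : (x₀⁻¹ * g') * z = z * (x₀⁻¹ * g') := by
      rw [mul_assoc, hgz, ← mul_assoc, hxz, mul_assoc]
    have h5 : x₀⁻¹ * g' ∈ P := hfin _ (Subgroup.mul_mem _ (Subgroup.inv_mem _ (hNn hM (hM.le hx₀))) hgn) h4 h3
    have h6 : g = m * (x₀ * (x₀⁻¹ * g')) := by rw [hg']; group
    rw [h6]
    exact M.mul_mem hm (hM.le (P.mul_mem hx₀ h5))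

theorem Ov.unique (h : Hyp P z v) {M M' : Subgroup S} (hM : Ov P z M) (hM' : Ov P z M') : M = M' :=
  le_antisymm (hM'.le_of h hM) (hM.le_of h hM')

end Cfsg.Agent.H778.D4
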