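import Cfsg.Agent.H778.D4.Odd

/-!
# S4311, BOX D4 (helper778)

* `card_PM` : `2 ^ 13 ≤ |PM|`;
* `boxD4` : at most one overgroup of index three of `PMS` does not centralise `z`.
-/

set_option autoImplicit false
set_option linter.unusedSectionVars false
set_option linter.unusedVariables false

namespace Cfsg.Agent.H778.D4

open Module QuadraticMap Cfsg.Agent.H167.OP Cfsg.Agent.H170.HL Cfsg.Agent.H170.HL.OmRow Cfsg.Agent.H556.Om
open Cfsg Subgroup Cfsg.Agent.H485.RV Cfsg.Agent.H561.RV Cfsg.Agent.H561.D4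

variable {F : Type} [Field F] {ι : Type} [Fintype ι] [DecidableEq ι] {Q : QuadraticForm F (ι → F)}
  {E : Fin 2 × A4 → ι → F}

theorem one_ne_neg (h2 : (2 : F) ≠ 0) : (1 : F) ≠ -1 := by
  intro h1
  apply h2
  have : (1 : F) + 1 = 0 := by nth_rewrite 2 [h1]; exact add_neg_cancel 1
  rw [← one_add_one_eq_two, this]

/-- the even sign changes -/
theorem exists_diag (h : Q8 Q) (hF : Frame (polarBilin Q) E) (j₀ : Fin 2 × A4) (A : Finset (Fin 2 × A4)) :
    ∃ (g : Cfsg.Omega F (⇑Q)) (s : Fin 2 × A4 → F), (∀ j, s j * s j = 1) ∧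
      rep (inc (⇑Q)) g = mono (polarBilin Q) E s id ∧ ∀ j, j ≠ j₀ → s j = if j ∈ A then -1 else 1 := by
  induction A using Finset.induction_on with
  | empty =>
    refine ⟨1, fun _ => 1, fun _ => one_mul 1, ?_, fun j _ => by simp⟩
    rw [map_one]
    exact (mono_one hF h.two (fun _ => rfl) fun j => rfl).symm
  | insert a A ha ih =>
    obtain ⟨g, s, hs, hg, hA⟩ := ih
    by_cases haj : j₀ = a
    · refine ⟨g, s, hs, hg, fun j hj => ?_⟩
      rw [hA j hj]
      have h1 : (j ∈ insert a A) ↔ j ∈ A := by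
        rw [Finset.mem_insert, ← haj]
        exact or_iff_right hj
      by_cases h2 : j ∈ A
      · rw [if_pos h2, if_pos (h1.2 h2)]
      · rw [if_neg h2, if_neg fun h3 => h2 (h1.1 h3)]
    · obtain ⟨t, ht⟩ := exists_sg h.gq h.two hF haj
      refine ⟨t * g, fun j => s j * H556.Om.sg F j₀ a j, fun j => ?_, ?_, fun j hj => ?_⟩
      · have h3 : H556.Om.sg F j₀ a j * H556.Om.sg F j₀ a j = 1 := by
          unfold H556.Om.sg
          split_ifs <;> norm_num
        dsimp only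
        rw [mul_mul_mul_comm, hs, h3, one_mul]
      · rw [map_mul, ht, hg, mono_mul hF h.two]
        rfl
      · show s j * H556.Om.sg F j₀ a j = _
        rw [hA j hj]
        unfold H556.Om.sg
        by_cases h2 : j = a
        · subst h2
          rw [if_neg ha, if_pos (Or.inr rfl), if_pos (Finset.mem_insert_self _ _), one_mul]
        · rw [if_neg (show ¬ (j = j₀ ∨ j = a) by rintro (h3 | h3); exacts [hj h3, h2 h3]), mul_one]
          have h1 : (j ∈ insert a A) ↔ j ∈ A := by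
            rw [Finset.mem_insert]
            exact or_iff_right h2
          by_cases h3 : j ∈ A
          · rw [if_pos h3, if_pos (h1.2 h3)]
          · rw [if_neg h3, if_neg fun h4 => h3 (h1.1 h4)]

theorem pp_inj {τ τ' : Equiv.Perm (Fin 2)} {b b' : Bool} {c c' : Fin 2 → A4}
    (h : ∀ j, pp τ (fun _ => b) c j = pp τ' (fun _ => b') c' j) : τ = τ' ∧ b = b' ∧ c = c' := by
  have h1 : ∀ k a, (τ k, lin b a + c k) = (τ' k, lin b' a + c' k) := fun k a => h (k, a)
  have h2 : τ = τ' := Equiv.ext fun k => congrArg Prod.fst (h1 k 0)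
  have h0 : ∀ b, lin b (0 : A4) = 0 := by decide
  have h3 : c = c' := by
    funext k
    have h4 : lin b 0 + c k = lin b' 0 + c' k := congrArg Prod.snd (h1 k 0)
    rwa [h0, h0, zero_add, zero_add] at h4
  refine ⟨h2, ?_, h3⟩
  have h4 : lin b (1, 0) + c 0 = lin b' (1, 0) + c' 0 := congrArg Prod.snd (h1 0 (1, 0))
  rw [h3] at h4
  have h5 := add_right_cancel h4
  clear h h1 h2 h3 h4
  revert b b'
  decide

/-- **the order of `PM`** -/
theorem card_PM [Finite F] (h : Q8 Q) (hF : Frame (polarBilin Q) E) : 2 ^ 13 ≤ Nat.card (PM h.two hF) := by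
  classical
  have hfin : Finite (Cfsg.Omega F (⇑Q)) := inferInstance
  let j₀ : Fin 2 × A4 := (0, (0, 0))
  let X := {A : Finset (Fin 2 × A4) // A ∈ (Finset.univ.erase j₀).powerset}
  choose g s hs hg hA using exists_diag h hF j₀
  choose x hx using fun (q : Equiv.Perm (Fin 2) × Bool × (Fin 2 → A4)) =>
    exists_perm h.gq h.two hF (sign_pp q.1 q.2.1 q.2.2)
  have hrep : ∀ (A : Finset (Fin 2 × A4)) (q : Equiv.Perm (Fin 2) × Bool × (Fin 2 → A4)),
      rep (inc (⇑Q)) (g A * x q) = mono (polarBilin Q) E (fun j => s A (pp q.1 (fun _ => q.2.1) q.2.2 j))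
        (pp q.1 (fun _ => q.2.1) q.2.2) := by
    intro A q
    rw [map_mul, hg, hx, mono_mul hF h.two]
    congr 1
    funext j
    rw [one_mul]
  let f : X × (Equiv.Perm (Fin 2) × Bool × (Fin 2 → A4)) → PM h.two hF := fun r =>
    ⟨g r.1.1 * x r.2, _, pp r.2.1 (fun _ => r.2.2.1) r.2.2.2, fun j => hs _ _, pp_mem _ _ _, hrep r.1.1 r.2⟩
  have hinj : Function.Injective f := by
    rintro ⟨⟨A, hA1⟩, q⟩ ⟨⟨A', hA1'⟩, q'⟩ heq
    have h1 : g A * x q = g A' * x q' := congrArg Subtype.val heq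
    have h2 := congrArg (rep (inc (⇑Q))) h1
    rw [hrep, hrep] at h2
    have h3 := mono_uniq h.two hF (fun j => hs A _) h2
    obtain ⟨h4, h5, h6⟩ := pp_inj fun j => (h3 j).1
    have hq : q = q' := Prod.ext h4 (Prod.ext h5 h6)
    subst hq
    have h7 : ∀ j, s A j = s A' j := by
      intro j
      have h8 := (h3 ((pp q.1 (fun _ => q.2.1) q.2.2).symm j)).2
      rwa [Equiv.apply_symm_apply] at h8
    have h9 : A = A' := by
      ext j
      by_cases hj : j = j₀
      · have hn : j₀ ∉ A := fun h10 => by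
          have := Finset.mem_powerset.1 hA1 h10
          exact (Finset.mem_erase.1 this).1 rfl
        have hn' : j₀ ∉ A' := fun h10 => by
          have := Finset.mem_powerset.1 hA1' h10
          exact (Finset.mem_erase.1 this).1 rfl
        rw [hj]
        exact iff_of_false hn hn'
      · have h10 := h7 j
        rw [hA A j hj, hA A' j hj] at h10
        have h11 := one_ne_neg h.two
        by_cases h12 : j ∈ A <;> by_cases h13 : j ∈ A'
        · exact iff_of_true h12 h13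
        · rw [if_pos h12, if_neg h13] at h10
          exact absurd h10.symm h11
        · rw [if_neg h12, if_pos h13] at h10
          exact absurd h10 h11
        · exact iff_of_false h12 h13
    subst h9
    rfl
  have h1 := Nat.card_le_card_of_injective f hinj
  refine le_trans (le_of_eq ?_) h1
  have hX : Nat.card X = 2 ^ 7 := by
    rw [Nat.card_eq_fintype_card, Fintype.card_coe, Finset.card_powerset, Finset.card_erase_of_mem (Finset.mem_univ _),
      Finset.card_univ]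
    rfl
  rw [Nat.card_prod, hX, Nat.card_prod, Nat.card_prod, Nat.card_eq_fintype_card (α := Equiv.Perm (Fin 2)),
    Nat.card_eq_fintype_card (α := Bool), Nat.card_eq_fintype_card (α := Fin 2 → A4), Fintype.card_perm, Fintype.card_fin,
    Fintype.card_bool, Fintype.card_fun, Fintype.card_fin, show Fintype.card A4 = 4 from rfl]
  norm_num [Nat.factorial]

theorem mk_eq_one {g : Cfsg.Omega F (⇑Q)} :
    (QuotientGroup.mk g : Cfsg.POmega F (⇑Q)) = 1 ↔ g ∈ Subgroup.center (Cfsg.Omega F (⇑Q)) :=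
  QuotientGroup.eq_one_iff g

/-- 2-elements modulo the centre are 2-elements -/
theorem two_of_mk (h : Q8 Q) {x : Cfsg.Omega F (⇑Q)} {k : ℕ}
    (hx : (QuotientGroup.mk x : Cfsg.POmega F (⇑Q)) ^ 2 ^ k = 1) : x ^ 2 ^ (k + 1) = 1 := by
  have h1 : x ^ 2 ^ k ∈ Subgroup.center (Cfsg.Omega F (⇑Q)) := by
    rw [← mk_eq_one, QuotientGroup.mk_pow]
    exact hx
  rw [pow_succ, pow_mul, pow_two]
  exact center_sq h h1

/-- `PMS` is a maximal 2-subgroup -/
theorem PMS_max [Finite F] (h : Q8 Q) (hF : Frame (polarBilin Q) E) (h14 : ¬ 2 ^ 14 ∣ Nat.card (Cfsg.Omega F (⇑Q)))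
    (R : Subgroup (Cfsg.POmega F (⇑Q))) (hR : IsPGroup 2 R) (hle : PMS h.two hF ≤ R) : R ≤ PMS h.two hF := by
  have hfin : Finite (Cfsg.Omega F (⇑Q)) := inferInstance
  have : Fact (Nat.Prime 2) := ⟨Nat.prime_two⟩
  set R' : Subgroup (Cfsg.Omega F (⇑Q)) := R.comap (QuotientGroup.mk' (Subgroup.center (Cfsg.Omega F (⇑Q)))) with hR'
  have hPR : PM h.two hF ≤ R' := by
    intro x hx
    exact hle ⟨x, hx, rfl⟩
  have hR'2 : IsPGroup 2 R' := by
    rintro ⟨x, hx⟩
    obtain ⟨k, hk⟩ := hR ⟨QuotientGroup.mk x, hx⟩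
    refine ⟨k + 1, Subtype.ext ?_⟩
    show x ^ 2 ^ (k + 1) = 1
    exact two_of_mk h (congrArg Subtype.val hk)
  obtain ⟨m, hm⟩ := hR'2.exists_card_eq
  have hm13 : m ≤ 13 := by
    by_contra hcon
    push Not at hcon
    apply h14
    refine dvd_trans (pow_dvd_pow 2 (show 14 ≤ m by omega)) ?_
    rw [← hm]
    exact Subgroup.card_subgroup_dvd_card R'
  have hcard : Nat.card R' ≤ Nat.card (PM h.two hF) := by
    rw [hm]
    exact le_trans (Nat.pow_le_pow_right (by norm_num) hm13) (card_PM h hF)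
  have heq : PM h.two hF = R' := Subgroup.eq_of_le_of_card_ge hPR hcard
  intro x hx
  obtain ⟨g, rfl⟩ := QuotientGroup.mk_surjective x
  refine ⟨g, ?_, rfl⟩
  rw [SetLike.mem_coe, heq]
  exact hx

theorem mk_comm {a b : Cfsg.Omega F (⇑Q)} {ε : F}
    (hab : ∀ u, rep (inc (⇑Q)) (a * b) u = ε • rep (inc (⇑Q)) (b * a) u) :
    (QuotientGroup.mk a : Cfsg.POmega F (⇑Q)) * QuotientGroup.mk b = QuotientGroup.mk b * QuotientGroup.mk a := by
  show (QuotientGroup.mk (a * b) : Cfsg.POmega F (⇑Q)) = QuotientGroup.mk (b * a)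
  symm
  rw [QuotientGroup.eq]
  apply mem_center_of (a := ε)
  intro u
  rw [mul_ap, hab, map_smul, inv_ap]

theorem eq_one_of_odd {G : Type*} [Group G] {c : G} {n : ℕ} (hn : Odd n) (hc : c ^ n = 1) (h2 : c * c = 1) : c = 1 := by
  obtain ⟨k, rfl⟩ := hn
  rw [pow_succ, pow_mul, pow_two, h2, one_pow, one_mul] at hc
  exact hc

/-- commuting modulo the centre and odd order -/
theorem comm_odd (h : Q8 Q) {a b : Cfsg.Omega F (⇑Q)}
    (hab : (QuotientGroup.mk a : Cfsg.POmega F (⇑Q)) * QuotientGroup.mk b = QuotientGroup.mk b * QuotientGroup.mk a)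
    {n : ℕ} (hn : Odd n) (han : a ^ n = 1) : a * b = b * a := by
  have h1 : (b * a)⁻¹ * (a * b) ∈ Subgroup.center (Cfsg.Omega F (⇑Q)) := QuotientGroup.eq.1 hab.symm
  set c := (b * a)⁻¹ * (a * b) with hc
  have h2 : b⁻¹ * a * b = a * c := by rw [hc]; group
  have h3 : (b⁻¹ * a * b) ^ n = 1 := by
    have h4 : (b⁻¹ * a * b) ^ n = b⁻¹ * a ^ n * b := by
      have := conj_pow (i := n) (a := b⁻¹) (b := a)
      rw [inv_inv] at this
      exact this
    rw [h4, han]
    group
  have hcomm : Commute a c := (Subgroup.mem_center_iff.1 h1 a)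
  rw [h2, hcomm.mul_pow, han, one_mul] at h3
  have h5 : c = 1 := eq_one_of_odd hn h3 (center_sq h h1)
  have h6 : a * b = b * a * c := by rw [hc]; group
  rw [h6, h5, mul_one]

theorem s0_pp {σ : Equiv.Perm (Fin 2 × A4)} (hσ : σ ∈ PP) : ∃ ε : F, ∀ j, s0 F (σ j) = ε * s0 F j := by
  obtain ⟨τ, b, c, hσ⟩ := hσ
  have hτ : (∀ k, τ k = k) ∨ (∀ k, (τ k = 0 ↔ ¬ k = 0)) := by
    clear hσ
    revert τ
    decide
  rcases hτ with hτ | hτ
  · refine ⟨1, ?_⟩
    rintro ⟨k, a⟩
    rw [hσ, one_mul, s0, s0]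
    dsimp only
    rw [hτ]
  · refine ⟨-1, ?_⟩
    rintro ⟨k, a⟩
    rw [hσ, s0, s0]
    dsimp only
    by_cases hk : k = 0
    · rw [if_pos hk, if_neg (fun h1 => (hτ k).1 h1 hk)]; ring
    · rw [if_neg hk, if_pos ((hτ k).2 hk)]; ring

theorem z_mem (h : Q8 Q) (hF : Frame (polarBilin Q) E) {z : Cfsg.Omega F (⇑Q)} (hz : IsZ Q E z) : z ∈ PM h.two hF :=
  ⟨_, 1, fun j => s0_sq j, PP.one_mem, hz⟩

theorem v_mem (h : Q8 Q) (hF : Frame (polarBilin Q) E) {v : Cfsg.Omega F (⇑Q)} (hv : IsV Q E v) : v ∈ PM h.two hF :=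
  ⟨_, 1, fun j => chi_sq j, PP.one_mem, hv⟩

theorem diag_comm (h : Q8 Q) (hF : Frame (polarBilin Q) E) {a b : Cfsg.Omega F (⇑Q)} {s t : Fin 2 × A4 → F}
    (ha : rep (inc (⇑Q)) a = mono (polarBilin Q) E s id) (hb : rep (inc (⇑Q)) b = mono (polarBilin Q) E t id) :
    a * b = b * a := by
  apply rep_inj
  rw [map_mul, map_mul, ha, hb, mono_mul hF h.two, mono_mul hF h.two]
  congr 1
  funext j
  exact mul_comm _ _

theorem diag_sq (h : Q8 Q) (hF : Frame (polarBilin Q) E) {a : Cfsg.Omega F (⇑Q)} {s : Fin 2 × A4 → F}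
    (hs : ∀ j, s j * s j = 1) (ha : rep (inc (⇑Q)) a = mono (polarBilin Q) E s id) : a * a = 1 := by
  apply rep_inj
  rw [map_mul, ha, mono_mul hF h.two, map_one]
  exact mono_one hF h.two (fun j => hs j) fun _ => rfl

/-- diagonal elements in the centre have constant signs -/
theorem diag_center (h : Q8 Q) (hF : Frame (polarBilin Q) E) {a : Cfsg.Omega F (⇑Q)} {s : Fin 2 × A4 → F}
    (ha : rep (inc (⇑Q)) a = mono (polarBilin Q) E s id) (hc : a ∈ Subgroup.center (Cfsg.Omega F (⇑Q))) (i j) :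
    s i = s j := by
  obtain ⟨ε, -, -, hu⟩ := rep_center h hc
  have key : ∀ i, s i = ε := by
    intro i
    have h1 := hu (E i)
    rw [ha, mono_e hF h.two] at h1
    have h2 := congrArg (polarBilin Q (E i)) h1
    rw [map_smul, map_smul, show E (id i) = E i from rfl, hF.self, smul_eq_mul, smul_eq_mul] at h2
    exact mul_right_cancel₀ h.two h2
  rw [key, key]

/-- the hypotheses of the abstract theorem -/
theorem hyp [Finite F] (h : Q8 Q) (hZ : BoxZ Q) (hF : Frame (polarBilin Q) E) {z v : Cfsg.Omega F (⇑Q)}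
    (hz : IsZ Q E z) (hv : IsV Q E v) (h14 : ¬ 2 ^ 14 ∣ Nat.card (Cfsg.Omega F (⇑Q))) :
    Hyp (PMS h.two hF) (QuotientGroup.mk z : Cfsg.POmega F (⇑Q)) (QuotientGroup.mk v) := by
  have hfin : Finite (Cfsg.Omega F (⇑Q)) := inferInstance
  have h11 := one_ne_neg h.two
  have hzz : z * z = 1 := diag_sq h hF s0_sq hz
  have hvv : v * v = 1 := diag_sq h hF chi_sq hv
  have hzv : z * v = v * z := diag_comm h hF hz hv
  have hz1 : z ∉ Subgroup.center (Cfsg.Omega F (⇑Q)) := by
    intro hc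
    have h1 := diag_center h hF hz hc (0, (0, 0)) (1, (0, 0))
    have h2 : (-1 : F) = 1 := h1
    exact h11 h2.symm
  have hv1 : v ∉ Subgroup.center (Cfsg.Omega F (⇑Q)) := by
    intro hc
    have h1 := diag_center h hF hv hc (0, (0, 0)) (0, (0, 1))
    have h2 : (1 : F) = -1 := h1
    exact h11 h2
  have hvz1 : v * z ∉ Subgroup.center (Cfsg.Omega F (⇑Q)) := by
    intro hc
    have h0 : rep (inc (⇑Q)) (v * z) = mono (polarBilin Q) E (fun j => s0 F j * chi F j) id := by
      rw [map_mul, hv, hz, mono_mul hF h.two]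
      rfl
    have h1 := diag_center h hF h0 hc (0, (0, 0)) (0, (0, 1))
    have h2 : (-1 : F) * 1 = -1 * -1 := h1
    apply h11
    linear_combination -h2
  have hmz : (QuotientGroup.mk z : Cfsg.POmega F (⇑Q)) * QuotientGroup.mk z = 1 := by
    show (QuotientGroup.mk (z * z) : Cfsg.POmega F (⇑Q)) = 1
    rw [hzz]; rfl
  have hmv : (QuotientGroup.mk v : Cfsg.POmega F (⇑Q)) * QuotientGroup.mk v = 1 := by
    show (QuotientGroup.mk (v * v) : Cfsg.POmega F (⇑Q)) = 1
    rw [hvv]; rfl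
  have hne1 : (QuotientGroup.mk z : Cfsg.POmega F (⇑Q)) ≠ 1 := fun h1 => hz1 (mk_eq_one.1 h1)
  have hne2 : (QuotientGroup.mk v : Cfsg.POmega F (⇑Q)) ≠ 1 := fun h1 => hv1 (mk_eq_one.1 h1)
  have hne3 : (QuotientGroup.mk v : Cfsg.POmega F (⇑Q)) ≠ QuotientGroup.mk z := by
    intro h1
    apply hvz1
    rw [← mk_eq_one]
    show (QuotientGroup.mk v : Cfsg.POmega F (⇑Q)) * QuotientGroup.mk z = 1
    rw [h1, hmz]
  have hzm : (QuotientGroup.mk z : Cfsg.POmega F (⇑Q)) ∈ PMS h.two hF := ⟨z, z_mem h hF hz, rfl⟩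
  have hvm : (QuotientGroup.mk v : Cfsg.POmega F (⇑Q)) ∈ PMS h.two hF := ⟨v, v_mem h hF hv, rfl⟩
  have htwo : IsPGroup 2 (PMS h.two hF) := (PM_isPGroup h.two hF).map _
  refine ⟨htwo, PMS_max h hF h14, hzm, hne1, hmz, ?_, ?_, ?_, ?_, ?_⟩
  · -- `z` is central in `PMS`
    rintro _ ⟨g, ⟨s, σ, hs, hσ, hg⟩, rfl⟩
    obtain ⟨ε, hε⟩ := s0_pp (F := F) hσ
    symm
    refine mk_comm (a := z) (b := g) (ε := ε) fun u => ?_
    have h1 : rep (inc (⇑Q)) (z * g) = ε • rep (inc (⇑Q)) (g * z) := by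
      rw [map_mul, map_mul, hz, hg, mono_mul hF h.two, mono_mul hF h.two]
      refine ext8 h hF fun j => ?_
      rw [mono_e hF h.two, LinearMap.smul_apply, mono_e hF h.two, smul_smul]
      congr 1
      show s j * s0 F (σ j) = ε * (s0 F j * s j)
      rw [hε]; ring
    rw [h1, LinearMap.smul_apply]
  · -- the centraliser of `PMS`
    intro w hw
    obtain ⟨g, rfl⟩ := QuotientGroup.mk_surjective w
    have h1 := (hZ h E hF).2 z g hz fun x hx => by
      have h2 : (QuotientGroup.mk x : Cfsg.POmega F (⇑Q)) * QuotientGroup.mk g = QuotientGroup.mk g * QuotientGroup.mk x :=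
        hw _ ⟨x, hx, rfl⟩
      rw [← mk_eq_one]
      show (QuotientGroup.mk g : Cfsg.POmega F (⇑Q)) * QuotientGroup.mk x * (QuotientGroup.mk g)⁻¹ *
        (QuotientGroup.mk x)⁻¹ = 1
      rw [← h2]
      group
    rcases h1 with h1 | h1
    · exact Or.inl (mk_eq_one.2 h1)
    · right
      rw [← mk_eq_one] at h1
      have h2 : (QuotientGroup.mk g : Cfsg.POmega F (⇑Q)) * (QuotientGroup.mk z)⁻¹ = 1 := h1
      exact mul_inv_eq_one.1 h2
  · -- the order
    have h1 : ({1, QuotientGroup.mk z, QuotientGroup.mk v} : Set (Cfsg.POmega F (⇑Q))).ncard = 3 := by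
      rw [Set.ncard_eq_three]
      exact ⟨_, _, _, hne1.symm, hne2.symm, hne3.symm, rfl⟩
    have h2 : ({1, QuotientGroup.mk z, QuotientGroup.mk v} : Set (Cfsg.POmega F (⇑Q))) ⊆ (PMS h.two hF : Set _) := by
      rintro x (rfl | rfl | rfl)
      · exact (PMS h.two hF).one_mem
      · exact hzm
      · exact hvm
    have h3 := Set.ncard_le_ncard h2 (Set.toFinite _)
    rw [h1] at h3
    exact h3
  · -- the monomial argument
    rintro _ ⟨g, ⟨s, σ, hs, hσ, hg⟩, rfl⟩ hw1 hwz hall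
    have hstar : ∀ x ∈ PM h.two hF, ∃ κ : Fin 2 → F, (∀ k, κ k * κ k = 1) ∧
        rep (inc (⇑Q)) (x * g) = mono (polarBilin Q) E (fun j => κ j.1) id * rep (inc (⇑Q)) (g * x) := by
      intro x hx
      apply star h hF hz
      rcases hall (QuotientGroup.mk x) ⟨x, hx, rfl⟩ with h1 | h1
      · left
        exact mul_inv_eq_iff_eq_mul.1 h1
      · right
        have h2 := mul_inv_eq_iff_eq_mul.1 h1
        rw [mul_assoc] at h2
        exact h2
    have h1 : ∀ j, σ j = j := perm_trivial h hF hs hg fun i j hij t ht => hstar t (sg_mem_PM h.two hF ht)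
    have hg' : rep (inc (⇑Q)) g = mono (polarBilin Q) E s id := by
      rw [hg]
      congr 1
      funext j
      exact h1 j
    have h2 := signs h hF hz hv hs hg' fun τ b c x hx => hstar x (perm_mem_PM h.two hF (pp_mem _ _ _) hx)
    have hinvz : (QuotientGroup.mk z : Cfsg.POmega F (⇑Q))⁻¹ = QuotientGroup.mk z := inv_eq_of_mul_eq_one_right hmz
    have hinvv : (QuotientGroup.mk v : Cfsg.POmega F (⇑Q))⁻¹ = QuotientGroup.mk v := inv_eq_of_mul_eq_one_right hmv
    rcases h2 with (h2 | h2) | (h2 | h2)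
    · exact absurd (mk_eq_one.2 h2) hw1
    · rw [← mk_eq_one] at h2
      have h3 : (QuotientGroup.mk g : Cfsg.POmega F (⇑Q)) * QuotientGroup.mk z = 1 := h2
      exact absurd ((eq_inv_of_mul_eq_one_left h3).trans hinvz) hwz
    · left
      rw [← mk_eq_one] at h2
      have h3 : (QuotientGroup.mk g : Cfsg.POmega F (⇑Q)) * QuotientGroup.mk v = 1 := h2
      exact (eq_inv_of_mul_eq_one_left h3).trans hinvv
    · right
      rw [← mk_eq_one] at h2
      have h3 : (QuotientGroup.mk g : Cfsg.POmega F (⇑Q)) * QuotientGroup.mk v * QuotientGroup.mk z = 1 := h2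
      have h4 := eq_inv_of_mul_eq_one_left h3
      rw [hinvz] at h4
      have h5 := eq_mul_inv_of_mul_eq h4
      rw [hinvv] at h5
      exact h5
  · -- elements of odd order
    intro y n hn hyn hyz hyv hr
    obtain ⟨g, rfl⟩ := QuotientGroup.mk_surjective y
    have h1 : g ^ n ∈ Subgroup.center (Cfsg.Omega F (⇑Q)) := by
      rw [← mk_eq_one, QuotientGroup.mk_pow]
      exact hyn
    set y := g ^ (n + 1) with hy
    have hmk : (QuotientGroup.mk y : Cfsg.POmega F (⇑Q)) = QuotientGroup.mk g := by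
      rw [hy, QuotientGroup.mk_pow, pow_succ, hyn, one_mul]
    have hyn1 : y ^ n = 1 := by
      obtain ⟨k, hk⟩ := hn
      have h2 : y ^ n = (g ^ n * g ^ n) ^ (k + 1) := by
        rw [hy, ← pow_mul, ← pow_add, ← pow_mul]
        congr 1
        rw [hk]; ring
      rw [h2, center_sq h h1, one_pow]
    rw [← hmk] at hyz hyv hr ⊢
    have h2 := comm_odd h hyz hn hyn1
    have h3 := comm_odd h hyv hn hyn1
    have h4 : y = 1 := by
      refine odd_trivial h hF hz hv h2 h3 hn hyn1 fun i j hij t ht => ?_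
      have htm : (QuotientGroup.mk t : Cfsg.POmega F (⇑Q)) ∈ PMS h.two hF := ⟨t, sg_mem_PM h.two hF ht, rfl⟩
      have htv : (QuotientGroup.mk t : Cfsg.POmega F (⇑Q)) * QuotientGroup.mk v = QuotientGroup.mk v * QuotientGroup.mk t := by
        show (QuotientGroup.mk (t * v) : Cfsg.POmega F (⇑Q)) = QuotientGroup.mk (v * t)
        rw [diag_comm h hF ht hv]
      have h5 := (PMS h.two hF).mul_mem (hr _ htm htv) ((PMS h.two hF).inv_mem htm)
      obtain ⟨k, hk⟩ := htwo ⟨_, h5⟩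
      have h6 := congrArg Subtype.val hk
      exact ⟨k + 1, two_of_mk h (x := y * t * y⁻¹ * t⁻¹) h6⟩
    rw [h4]
    rfl

/-- **BOX D4** -/
theorem boxD4 [Finite F] (hN : BoxN Q) (hZ : BoxZ Q) : BoxD4 Q := by
  intro h E hF z hz h14
  have hfin : Finite (Cfsg.Omega F (⇑Q)) := inferInstance
  obtain ⟨v, hv⟩ := exists_v h hF
  have H := hyp h hZ hF hz hv h14
  rw [Set.encard_le_one_iff]
  rintro M M' ⟨h1, h2, h3⟩ ⟨h1', h2', h3'⟩
  exact Ov.unique H ⟨h1, h2, h3⟩ ⟨h1', h2', h3'⟩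

end Cfsg.Agent.H778.D4
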