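import Cfsg.Agent.H561.D4.Boxes
import Cfsg.Agent.H778.D4.Abs

/-!
# S4311, BOX D4: monomial computations (helper778)
-/

set_option autoImplicit false
set_option linter.unusedSectionVars false

namespace Cfsg.Agent.H778.D4

open Module QuadraticMap Cfsg.Agent.H167.OP Cfsg.Agent.H170.HL Cfsg.Agent.H170.HL.OmRow Cfsg.Agent.H556.Om
open Cfsg Subgroup Cfsg.Agent.H485.RV Cfsg.Agent.H561.RV Cfsg.Agent.H561.D4

variable {F : Type} [Field F] {ι : Type} [Fintype ι] [DecidableEq ι] {Q : QuadraticForm F (ι → F)}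
  {E : Fin 2 × A4 → ι → F}

/-- the frame spans the space -/
theorem span_frame (h : Q8 Q) (hF : Frame (polarBilin Q) E) {w : ι → F} (hw : ∀ j, polarBilin Q (E j) w = 0) :
    w = 0 := by
  have hli := hF.linearIndependent h.two
  have hspan : Submodule.span F (Set.range E) = ⊤ := by
    apply hli.span_eq_top_of_card_eq_finrank'
    rw [Module.finrank_fintype_fun_eq_card, h.dim]
    rfl
  have hmem : w ∈ Submodule.span F (Set.range E) := by rw [hspan]; trivial
  rw [Submodule.mem_span_range_iff_exists_fun] at hmem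
  obtain ⟨c, rfl⟩ := hmem
  refine Finset.sum_eq_zero fun j _ => ?_
  have h1 := hw j
  rw [map_sum, Finset.sum_eq_single j] at h1
  · rw [map_smul, hF.self, smul_eq_mul] at h1
    rw [(mul_eq_zero.1 h1).resolve_right h.two, zero_smul]
  · intro i _ hi
    rw [map_smul, hF.orth j i hi.symm, smul_zero]
  · intro h
    exact absurd (Finset.mem_univ j) h

theorem ext8 (h : Q8 Q) (hF : Frame (polarBilin Q) E) {φ ψ : Module.End F (ι → F)} (h1 : ∀ j, φ (E j) = ψ (E j)) :
    φ = ψ :=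
  ext_frame hF h.two h1 fun w hw => by rw [span_frame h hF hw, map_zero, map_zero]

/-- the centre -/
theorem rep_center (h : Q8 Q) {c : Cfsg.Omega F (⇑Q)} (hc : c ∈ Subgroup.center (Cfsg.Omega F (⇑Q))) :
    ∃ a : F, a * a = 1 ∧ (a = 1 ∨ a = -1) ∧ ∀ u, rep (inc (⇑Q)) c u = a • u := by
  have h4 := (Cfsg.Agent.LieClassical.OmegaCenter.mem_center_omega_iff Q h.gq.nd h.gq.card h.gq.sing _).mp hc
  have h4' : inc (⇑Q) c = 1 ∨ inc (⇑Q) c = -1 := h4
  rcases h4' with h5 | h5
  · exact ⟨1, one_mul 1, Or.inl rfl, fun u => by rw [rep_apply, h5, Matrix.one_mulVec, one_smul]⟩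
  · refine ⟨-1, by norm_num, Or.inr rfl, fun u => ?_⟩
    rw [rep_apply, h5, Matrix.neg_mulVec, Matrix.one_mulVec, neg_one_smul]

theorem mem_center_of {c : Cfsg.Omega F (⇑Q)} {a : F} (hc : ∀ u, rep (inc (⇑Q)) c u = a • u) :
    c ∈ Subgroup.center (Cfsg.Omega F (⇑Q)) := by
  rw [Subgroup.mem_center_iff]
  intro g
  apply rep_inj
  apply LinearMap.ext
  intro u
  rw [mul_ap, mul_ap, hc, hc, map_smul]

theorem center_sq (h : Q8 Q) {c : Cfsg.Omega F (⇑Q)} (hc : c ∈ Subgroup.center (Cfsg.Omega F (⇑Q))) : c * c = 1 := by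
  obtain ⟨a, ha, -, hu⟩ := rep_center h hc
  apply rep_inj
  apply LinearMap.ext
  intro u
  rw [mul_ap, hu, hu, smul_smul, ha, one_smul, map_one, Module.End.one_apply]

/-- uniqueness of the parameters of a monomial map -/
theorem mono_uniq {J : Type*} [Fintype J] [DecidableEq J] {e : J → ι → F} (h2 : (2 : F) ≠ 0)
    (hF : Frame (polarBilin Q) e) {s t : J → F} {σ τ : J → J} (hs : ∀ j, s j * s j = 1)
    (he : mono (polarBilin Q) e s σ = mono (polarBilin Q) e t τ) (j : J) : σ j = τ j ∧ s j = t j := by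
  have h1 := congrArg (fun T : Module.End F (ι → F) => polarBilin Q (e (σ j)) (T (e j))) he
  simp only [mono_e hF h2, map_smul, hF.self, smul_eq_mul] at h1
  by_cases h3 : σ j = τ j
  · refine ⟨h3, ?_⟩
    rw [← h3, hF.self] at h1
    exact mul_right_cancel₀ h2 h1
  · exfalso
    rw [hF.orth _ _ h3, mul_zero] at h1
    have h4 : s j = 0 := (mul_eq_zero.1 h1).resolve_right h2
    have h5 := hs j
    rw [h4, mul_zero] at h5
    exact zero_ne_one h5

/-- images equal modulo `z` -/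
theorem star (h : Q8 Q) (hF : Frame (polarBilin Q) E) {z a b : Cfsg.Omega F (⇑Q)} (hz : IsZ Q E z)
    (hab : (QuotientGroup.mk a : Cfsg.POmega F (⇑Q)) = QuotientGroup.mk b ∨
      (QuotientGroup.mk a : Cfsg.POmega F (⇑Q)) = QuotientGroup.mk z * QuotientGroup.mk b) :
    ∃ κ : Fin 2 → F, (∀ k, κ k * κ k = 1) ∧
      rep (inc (⇑Q)) a = mono (polarBilin Q) E (fun j => κ j.1) id * rep (inc (⇑Q)) b := by
  have key : ∀ d : Cfsg.Omega F (⇑Q), (QuotientGroup.mk a : Cfsg.POmega F (⇑Q)) = QuotientGroup.mk d →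
      ∃ ε : F, ε * ε = 1 ∧ ∀ u, rep (inc (⇑Q)) a u = ε • rep (inc (⇑Q)) d u := by
    intro d hd
    have h1 : a⁻¹ * d ∈ Subgroup.center (Cfsg.Omega F (⇑Q)) := QuotientGroup.eq.1 hd
    obtain ⟨ε, hε, -, hu⟩ := rep_center h h1
    refine ⟨ε, hε, fun u => ?_⟩
    have h2 : d = a * (a⁻¹ * d) := by group
    rw [h2, mul_ap, hu, map_smul, smul_smul, hε, one_smul]
  rcases hab with h1 | h1
  · obtain ⟨ε, hε, hu⟩ := key b h1
    refine ⟨fun _ => ε, fun _ => hε, ?_⟩
    have h3 : mono (polarBilin Q) E (fun _ => ε) id = ε • (1 : Module.End F (ι → F)) := by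
      refine ext8 h hF fun j => ?_
      rw [mono_e hF h.two, LinearMap.smul_apply, Module.End.one_apply]
      rfl
    rw [h3]
    apply LinearMap.ext
    intro u
    rw [hu, Module.End.mul_apply, LinearMap.smul_apply, Module.End.one_apply]
  · obtain ⟨ε, hε, hu⟩ := key (z * b) h1
    refine ⟨fun k => if k = 0 then -ε else ε, fun k => ?_, ?_⟩
    · dsimp only
      split_ifs
      · rw [neg_mul_neg, hε]
      · exact hε
    have h3 : mono (polarBilin Q) E (fun j => if j.1 = 0 then -ε else ε) id = ε • rep (inc (⇑Q)) z := by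
      refine ext8 h hF fun j => ?_
      rw [hz, mono_e hF h.two, LinearMap.smul_apply, mono_e hF h.two, smul_smul, s0]
      congr 1
      split_ifs <;> ring
    rw [h3]
    apply LinearMap.ext
    intro u
    rw [hu, Module.End.mul_apply, LinearMap.smul_apply, mul_ap]

/-- step 1: the permutation is trivial -/
theorem perm_trivial (h : Q8 Q) (hF : Frame (polarBilin Q) E) {g : Cfsg.Omega F (⇑Q)} {s : Fin 2 × A4 → F}
    {σ : Equiv.Perm (Fin 2 × A4)} (hs : ∀ j, s j * s j = 1) (hg : rep (inc (⇑Q)) g = mono (polarBilin Q) E s σ)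
    (hstar : ∀ i j : Fin 2 × A4, i ≠ j → ∀ t : Cfsg.Omega F (⇑Q),
      rep (inc (⇑Q)) t = mono (polarBilin Q) E (H556.Om.sg F i j) id → ∃ κ : Fin 2 → F, (∀ k, κ k * κ k = 1) ∧
        rep (inc (⇑Q)) (t * g) = mono (polarBilin Q) E (fun j => κ j.1) id * rep (inc (⇑Q)) (g * t)) :
    ∀ j, σ j = j := by
  have h11 : (1 : F) ≠ -1 := by
    intro h1
    apply h.two
    have : (1 : F) + 1 = 0 := by nth_rewrite 2 [h1]; exact add_neg_cancel 1
    rw [← one_add_one_eq_two, this]
  -- `σ` preserves `{i, j}`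
  have key : ∀ i j : Fin 2 × A4, i.1 = 0 → j.1 = 1 → ∀ l, H556.Om.sg F i j (σ l) = H556.Om.sg F i j l := by
    intro i j hi hj
    have hij : i ≠ j := by
      intro h1
      rw [h1, hj] at hi
      exact absurd hi (by decide)
    obtain ⟨t, ht⟩ := exists_sg h.gq h.two hF hij
    obtain ⟨κ, hκ, h1⟩ := hstar i j hij t ht
    rw [map_mul, map_mul, ht, hg, mono_mul hF h.two, mono_mul hF h.two, mono_mul hF h.two] at h1
    have hsg : ∀ k, H556.Om.sg F i j k * H556.Om.sg F i j k = 1 := by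
      intro k
      unfold H556.Om.sg
      split_ifs <;> norm_num
    have h2 : ∀ l, s l * H556.Om.sg F i j (σ l) = H556.Om.sg F i j l * s l * κ (σ l).1 := fun l =>
      (mono_uniq h.two hF (fun l => by
        show s l * H556.Om.sg F i j (σ l) * (s l * H556.Om.sg F i j (σ l)) = 1
        rw [mul_mul_mul_comm, hs, hsg, one_mul]) h1 l).2
    have h3 : ∀ l, H556.Om.sg F i j (σ l) = H556.Om.sg F i j l * κ (σ l).1 := by
      intro l
      calc H556.Om.sg F i j (σ l) = s l * (s l * H556.Om.sg F i j (σ l)) := by rw [← mul_assoc, hs, one_mul]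
        _ = s l * (H556.Om.sg F i j l * s l * κ (σ l).1) := by rw [h2]
        _ = (s l * s l) * (H556.Om.sg F i j l * κ (σ l).1) := by ring
        _ = _ := by rw [hs, one_mul]
    -- `κ = 1`
    have h4 : ∀ k, κ k = 1 := by
      intro k
      -- the element of `{i, j}` in the block `k`
      obtain ⟨m, hm, hm'⟩ : ∃ m : Fin 2 × A4, (∀ l : Fin 2 × A4, l.1 = k → l ≠ m → l ≠ i ∧ l ≠ j) ∧ m.1 = k := by
        have hk : k = 0 ∨ k = 1 := by
          revert k; decide
        rcases hk with rfl | rfl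
        · refine ⟨i, fun l hl hli => ⟨hli, ?_⟩, hi⟩
          rintro rfl
          rw [hj] at hl
          exact absurd hl (by decide)
        · refine ⟨j, fun l hl hlj => ⟨?_, hlj⟩, hj⟩
          rintro rfl
          rw [hi] at hl
          exact absurd hl (by decide)
      obtain ⟨l, hl, hlm⟩ : ∃ l ∈ Finset.univ.filter (fun l : Fin 2 × A4 => l.1 = k),
          l ∉ ({m, σ i, σ j} : Finset (Fin 2 × A4)) := by
        apply Finset.exists_mem_notMem_of_card_lt_card
        have h5 : (Finset.univ.filter (fun l : Fin 2 × A4 => l.1 = k)).card = 4 := by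
          clear hm hm'
          revert k
          decide
        rw [h5]
        exact lt_of_le_of_lt Finset.card_le_three (by norm_num)
      rw [Finset.mem_filter] at hl
      simp only [Finset.mem_insert, Finset.mem_singleton, not_or] at hlm
      obtain ⟨hl1, hl2, hl3⟩ := hlm
      have h5 := h3 (σ.symm l)
      rw [Equiv.apply_symm_apply, hl.2] at h5
      have h6 := hm l hl.2 hl1
      have h7 : H556.Om.sg F i j l = 1 := by
        unfold H556.Om.sg
        rw [if_neg (by rintro (h8 | h8); exacts [h6.1 h8, h6.2 h8])]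
      have h8 : H556.Om.sg F i j (σ.symm l) = 1 := by
        unfold H556.Om.sg
        rw [if_neg]
        rintro (h8 | h8)
        · exact hl2 (by rw [← h8, Equiv.apply_symm_apply])
        · exact hl3 (by rw [← h8, Equiv.apply_symm_apply])
      rw [h7, h8, one_mul] at h5
      exact h5.symm
    intro l
    rw [h3, h4, mul_one]
  have hpair : ∀ i j : Fin 2 × A4, i.1 = 0 → j.1 = 1 → (σ i = i ∨ σ i = j) ∧ (σ j = i ∨ σ j = j) := by
    intro i j hi hj
    have h1 := key i j hi hj i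
    have h2 := key i j hi hj j
    unfold H556.Om.sg at h1 h2
    rw [if_pos (Or.inl rfl)] at h1
    rw [if_pos (Or.inr rfl)] at h2
    constructor
    · by_contra hcon
      rw [if_neg hcon] at h1
      exact h11 h1
    · by_contra hcon
      rw [if_neg hcon] at h2
      exact h11 h2
  intro j
  have hj : j.1 = 0 ∨ j.1 = 1 := by
    generalize j.1 = k
    revert k; decide
  rcases hj with hj | hj
  · rcases (hpair j (1, (0, 0)) hj rfl).1 with h1 | h1
    · exact h1
    · rcases (hpair j (1, (0, 1)) hj rfl).1 with h2 | h2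
      · exact h2
      · rw [h1] at h2
        exact absurd h2 (by decide)
  · rcases (hpair (0, (0, 0)) j rfl hj).2 with h1 | h1
    · rcases (hpair (0, (0, 1)) j rfl hj).2 with h2 | h2
      · rw [h1] at h2
        exact absurd h2 (by decide)
      · exact h2
    · exact h1

/-- the signs of `v` -/
def chi (F : Type) [Field F] (j : Fin 2 × A4) : F := if j.2.1 = j.2.2 then 1 else -1

/-- `v` is the element `χ` on both blocks -/
def IsV (Q : QuadraticForm F (ι → F)) (E : Fin 2 × A4 → ι → F) (v : Cfsg.Omega F (⇑Q)) : Prop :=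
  rep (inc (⇑Q)) v = mono (polarBilin Q) E (chi F) id

theorem chi_sq (j : Fin 2 × A4) : chi F j * chi F j = 1 := by
  unfold chi
  split_ifs <;> norm_num

theorem s0_sq (j : Fin 2 × A4) : s0 F j * s0 F j = 1 := by
  unfold s0
  split_ifs <;> norm_num

theorem exists_v (h : Q8 Q) (hF : Frame (polarBilin Q) E) : ∃ v, IsV Q E v := by
  have h1 : ((0, (0, 1)) : Fin 2 × A4) ≠ (0, (1, 0)) := by decide
  have h2 : ((1, (0, 1)) : Fin 2 × A4) ≠ (1, (1, 0)) := by decide
  obtain ⟨x, hx⟩ := exists_sg h.gq h.two hF h1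
  obtain ⟨y, hy⟩ := exists_sg h.gq h.two hF h2
  refine ⟨x * y, ?_⟩
  rw [IsV, map_mul, hx, hy, mono_mul hF h.two]
  congr 1
  funext j
  have h3 : ∀ j : Fin 2 × A4, ((j = (0, (0, 1)) ∨ j = (0, (1, 0))) ∧ ¬ (j = (1, (0, 1)) ∨ j = (1, (1, 0))) ∧ ¬ j.2.1 = j.2.2) ∨
      (¬ (j = (0, (0, 1)) ∨ j = (0, (1, 0))) ∧ (j = (1, (0, 1)) ∨ j = (1, (1, 0))) ∧ ¬ j.2.1 = j.2.2) ∨
      (¬ (j = (0, (0, 1)) ∨ j = (0, (1, 0))) ∧ ¬ (j = (1, (0, 1)) ∨ j = (1, (1, 0))) ∧ j.2.1 = j.2.2) := by decide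
  simp only [H556.Om.sg, chi, id]
  rcases h3 j with ⟨h4, h5, h6⟩ | ⟨h4, h5, h6⟩ | ⟨h4, h5, h6⟩
  · rw [if_neg h5, if_pos h4, if_neg h6, one_mul]
  · rw [if_pos h5, if_neg h4, if_neg h6, mul_one]
  · rw [if_neg h5, if_neg h4, if_pos h6, mul_one]

theorem sign_cases {a : F} (ha : a * a = 1) : a = 1 ∨ a = -1 := mul_self_eq_one_iff.1 ha

/-- elements constant on the blocks -/
theorem block_const (h : Q8 Q) (hF : Frame (polarBilin Q) E) {z g : Cfsg.Omega F (⇑Q)} (hz : IsZ Q E z) {p : Fin 2 → F}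
    (hp : ∀ k, p k * p k = 1) (hg : rep (inc (⇑Q)) g = mono (polarBilin Q) E (fun j => p j.1) id) :
    g ∈ Subgroup.center (Cfsg.Omega F (⇑Q)) ∨ g * z ∈ Subgroup.center (Cfsg.Omega F (⇑Q)) := by
  have hblk : ∀ (x : Cfsg.Omega F (⇑Q)) (q : Fin 2 × A4 → F) (c : F), (∀ j, q j = c) →
      rep (inc (⇑Q)) x = mono (polarBilin Q) E q id → x ∈ Subgroup.center (Cfsg.Omega F (⇑Q)) := by
    intro x q c hq hx
    have h1 : rep (inc (⇑Q)) x = c • (1 : Module.End F (ι → F)) := by
      rw [hx]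
      refine ext8 h hF fun j => ?_
      rw [mono_e hF h.two, hq, LinearMap.smul_apply, Module.End.one_apply]
      rfl
    exact mem_center_of (a := c) fun u => by rw [h1, LinearMap.smul_apply, Module.End.one_apply]
  have h01 : ∀ j : Fin 2 × A4, j.1 = 0 ∨ j.1 = 1 := by
    intro j
    generalize j.1 = k
    revert k; decide
  by_cases h1 : p 0 = p 1
  · refine Or.inl (hblk g _ (p 0) (fun j => ?_) hg)
    rcases h01 j with h2 | h2
    · rw [h2]
    · rw [h2, h1]
  · have h2 : p 0 = - p 1 := by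
      rcases sign_cases (hp 0) with h3 | h3 <;> rcases sign_cases (hp 1) with h4 | h4
      · exact absurd (h3.trans h4.symm) h1
      · rw [h3, h4, neg_neg]
      · rw [h3, h4]
      · exact absurd (h3.trans h4.symm) h1
    refine Or.inr (hblk (g * z) (fun j => s0 F j * p j.1) (p 1) (fun j => ?_) ?_)
    · show s0 F j * p j.1 = p 1
      rcases h01 j with h3 | h3
      · rw [s0, h3, if_pos rfl, h2]; ring
      · rw [s0, h3, if_neg (by decide), one_mul]
    · rw [map_mul, hg, hz, mono_mul hF h.two]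
      rfl

/-- step 2: the signs -/
theorem signs (h : Q8 Q) (hF : Frame (polarBilin Q) E) {z v g : Cfsg.Omega F (⇑Q)} (hz : IsZ Q E z) (hv : IsV Q E v)
    {s : Fin 2 × A4 → F} (hs : ∀ j, s j * s j = 1) (hg : rep (inc (⇑Q)) g = mono (polarBilin Q) E s id)
    (hstar : ∀ (τ : Equiv.Perm (Fin 2)) (b : Bool) (c : Fin 2 → A4) (x : Cfsg.Omega F (⇑Q)),
      rep (inc (⇑Q)) x = mono (polarBilin Q) E (fun _ => 1) (pp τ (fun _ => b) c) → ∃ κ : Fin 2 → F,
        (∀ k, κ k * κ k = 1) ∧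
        rep (inc (⇑Q)) (x * g) = mono (polarBilin Q) E (fun j => κ j.1) id * rep (inc (⇑Q)) (g * x)) :
    (g ∈ Subgroup.center (Cfsg.Omega F (⇑Q)) ∨ g * z ∈ Subgroup.center (Cfsg.Omega F (⇑Q))) ∨
    (g * v ∈ Subgroup.center (Cfsg.Omega F (⇑Q)) ∨ g * v * z ∈ Subgroup.center (Cfsg.Omega F (⇑Q))) := by
  have key : ∀ (τ : Equiv.Perm (Fin 2)) (b : Bool) (c : Fin 2 → A4), ∃ κ : Fin 2 → F, (∀ k, κ k * κ k = 1) ∧
      ∀ k a, s (k, a) = s (τ k, lin b a + c k) * κ (τ k) := by
    intro τ b c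
    obtain ⟨x, hx⟩ := exists_perm h.gq h.two hF (sign_pp τ b c)
    obtain ⟨κ, hκ, h1⟩ := hstar τ b c x hx
    refine ⟨κ, hκ, fun k a => ?_⟩
    rw [map_mul, map_mul, hx, hg, mono_mul hF h.two, mono_mul hF h.two, mono_mul hF h.two] at h1
    have h2 := (mono_uniq h.two hF (fun l => by
      show s l * 1 * (s l * 1) = 1
      rw [mul_one, hs]) h1 (k, a)).2
    have h3 : s (k, a) * 1 = 1 * s (τ k, lin b a + c k) * κ (τ k) := h2
    rw [mul_one, one_mul] at h3
    exact h3
  -- translations by `(1, 0)` and the exchange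
  have h1 : ∀ k, s (k, (1, 0)) = s (k, (0, 1)) := by
    intro k
    obtain ⟨κ, hκ, h2⟩ := key 1 true 0
    have h3 : s (k, (0, 0)) = s (k, (0, 0)) * κ k := h2 k (0, 0)
    have h4 : s (k, (1, 0)) = s (k, (0, 1)) * κ k := h2 k (1, 0)
    have h5 : κ k = 1 := by
      calc κ k = (s (k, (0, 0)) * s (k, (0, 0))) * κ k := by rw [hs, one_mul]
        _ = s (k, (0, 0)) * (s (k, (0, 0)) * κ k) := by ring
        _ = s (k, (0, 0)) * s (k, (0, 0)) := by rw [← h3]
        _ = 1 := hs _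
    rw [h4, h5, mul_one]
  have h2 : ∀ k, s (k, (1, 1)) = s (k, (0, 0)) := by
    intro k
    obtain ⟨κ, hκ, h2⟩ := key 1 false (fun _ => (1, 0))
    have h3 : s (k, (0, 0)) = s (k, (1, 0)) * κ k := h2 k (0, 0)
    have h4 : s (k, (0, 1)) = s (k, (1, 1)) * κ k := h2 k (0, 1)
    rw [← h1] at h4
    calc s (k, (1, 1)) = s (k, (1, 1)) * (κ k * κ k) := by rw [hκ, mul_one]
      _ = (s (k, (1, 1)) * κ k) * κ k := by ring
      _ = s (k, (0, 0)) := by rw [← h4, h3]
  have h3 : s (0, (0, 0)) * s (0, (0, 1)) = s (1, (0, 0)) * s (1, (0, 1)) := by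
    obtain ⟨κ, hκ, h3⟩ := key (Equiv.swap 0 1) false 0
    have h4 : s (0, (0, 0)) = s (1, (0, 0)) * κ 1 := h3 0 (0, 0)
    have h5 : s (0, (0, 1)) = s (1, (0, 1)) * κ 1 := h3 0 (0, 1)
    calc s (0, (0, 0)) * s (0, (0, 1)) = (s (1, (0, 0)) * κ 1) * (s (1, (0, 1)) * κ 1) := by rw [h4, h5]
      _ = s (1, (0, 0)) * s (1, (0, 1)) * (κ 1 * κ 1) := by ring
      _ = _ := by rw [hκ, mul_one]
  have hall : ∀ a : A4, a = (0, 0) ∨ a = (0, 1) ∨ a = (1, 0) ∨ a = (1, 1) := by decide
  by_cases h4 : s (0, (0, 0)) = s (0, (0, 1))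
  · -- constant on the blocks
    left
    refine block_const h hF hz (p := fun k => s (k, (0, 0))) (fun k => hs _) ?_
    rw [hg]
    congr 1
    funext ⟨k, a⟩
    have h5 : ∀ k, s (k, (0, 1)) = s (k, (0, 0)) := by
      intro k
      have hk : k = 0 ∨ k = 1 := by revert k; decide
      rcases hk with rfl | rfl
      · exact h4.symm
      · rw [← h4, hs] at h3
        calc s (1, (0, 1)) = (s (1, (0, 0)) * s (1, (0, 0))) * s (1, (0, 1)) := by rw [hs, one_mul]
          _ = s (1, (0, 0)) * (s (1, (0, 0)) * s (1, (0, 1))) := by ring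
          _ = s (1, (0, 0)) := by rw [← h3, mul_one]
    show s (k, a) = s (k, (0, 0))
    rcases hall a with rfl | rfl | rfl | rfl
    · rfl
    · exact h5 k
    · rw [h1, h5]
    · exact h2 k
  · right
    have h4' : s (0, (0, 1)) = - s (0, (0, 0)) := by
      rcases sign_cases (hs (0, (0, 0))) with h5 | h5 <;> rcases sign_cases (hs (0, (0, 1))) with h6 | h6
      · exact absurd (h5.trans h6.symm) h4
      · rw [h5, h6]
      · rw [h5, h6, neg_neg]
      · exact absurd (h5.trans h6.symm) h4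
    have h5 : ∀ k, s (k, (0, 1)) = - s (k, (0, 0)) := by
      intro k
      have hk : k = 0 ∨ k = 1 := by revert k; decide
      rcases hk with rfl | rfl
      · exact h4'
      · rw [h4', mul_neg, hs] at h3
        calc s (1, (0, 1)) = (s (1, (0, 0)) * s (1, (0, 0))) * s (1, (0, 1)) := by rw [hs, one_mul]
          _ = s (1, (0, 0)) * (s (1, (0, 0)) * s (1, (0, 1))) := by ring
          _ = - s (1, (0, 0)) := by rw [← h3]; ring
    refine block_const h hF hz (g := g * v) (p := fun k => s (k, (0, 0))) (fun k => hs _) ?_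
    rw [map_mul, hg, hv, mono_mul hF h.two]
    congr 1
    funext ⟨k, a⟩
    show chi F (k, a) * s (k, a) = s (k, (0, 0))
    unfold chi
    rcases hall a with rfl | rfl | rfl | rfl
    · rw [if_pos rfl, one_mul]
    · rw [if_neg (show ¬ ((0 : ZMod 2) = 1) by decide), h5]; ring
    · rw [if_neg (show ¬ ((1 : ZMod 2) = 0) by decide), h1, h5]; ring
    · rw [if_pos rfl, one_mul, h2]

end Cfsg.Agent.H778.D4
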